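import Cfsg.Agent.H934.HeisChev
import Cfsg.Agent.H972.Weights

/-!
# S4816, `RIM-X-G24` (helper277): the degree of a nontrivial module of `G₂(q)`, `q` even, in odd characteristic

`GTwo.dim_ge` : a representation of `G₂(F)` (`char F = 2`) over a field of characteristic not 2 in which the root
subgroup `X_{3a+2b}` is not trivial has dimension at least `q (q ^ 2 - 1)`: the weights of the elementary abelian
group `X_{2a+b} X_{3a+b} X_{3a+2b}` which are nontrivial on `X_{3a+b} X_{3a+2b}` form one orbit.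
-/

set_option autoImplicit false

namespace Cfsg.Agent.H277.RIM

open Cfsg Cfsg.Lie Cfsg.Agent.ChevalleyStructure.Elts Cfsg.Agent.H934.HeisChev Cfsg.Agent.H972.Weights

/-! ### common eigenvectors of an elementary abelian 2-group -/

section eigen

variable {A K U : Type*} [CommGroup A] [Finite A] [Field K] [AddCommGroup U] [Module K U]

theorem exists_eigen (hA : ∀ a : A, a * a = 1) (r : A →* Module.End K U) (x : A) (hx : r x ≠ 1) :
    ∃ χ : A →* Kˣ, χ x = -1 ∧ HasWeight r χ := by
  classical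
  have rr : ∀ (a b : A) (w : U), r a (r b w) = r b (r a w) := fun a b w => by
    rw [← Module.End.mul_apply, ← Module.End.mul_apply, ← map_mul, ← map_mul, mul_comm]
  have ra : ∀ (a : A) (w : U), r a (r a w) = w := fun a w => by
    rw [← Module.End.mul_apply, ← map_mul, hA, map_one, Module.End.one_apply]
  have : Fintype A := Fintype.ofFinite A
  have key : ∀ s : Finset A, ∃ w : U, w ≠ 0 ∧ r x w = -w ∧ ∀ a ∈ s, r a w = w ∨ r a w = -w := by
    intro s
    induction s using Finset.induction_on with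
    | empty =>
      obtain ⟨v, hv⟩ : ∃ v, r x v ≠ v := by
        by_contra hcon
        push Not at hcon
        exact hx (LinearMap.ext hcon)
      refine ⟨v - r x v, sub_ne_zero.2 (Ne.symm hv), ?_, by simp⟩
      rw [map_sub, ra, neg_sub]
    | insert a s _ ih =>
      obtain ⟨w, hw, hxw, hs⟩ := ih
      by_cases h : w + r a w = 0
      · refine ⟨w, hw, hxw, fun b hb => ?_⟩
        rcases Finset.mem_insert.1 hb with rfl | hb
        · exact Or.inr (by rw [eq_neg_iff_add_eq_zero, add_comm]; exact h)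
        · exact hs b hb
      · refine ⟨w + r a w, h, ?_, fun b hb => ?_⟩
        · rw [map_add, rr x a, hxw, map_neg, neg_add]
        · rcases Finset.mem_insert.1 hb with rfl | hb
          · left
            rw [map_add, ra, add_comm]
          · rcases hs b hb with h1 | h1
            · left
              rw [map_add, rr b a, h1]
            · right
              rw [map_add, rr b a, h1, map_neg, neg_add]
  obtain ⟨w, hw, hxw, hs⟩ := key Finset.univ
  have h1 : ∀ a : A, ∃ c : Kˣ, r a w = (c : K) • w := fun a => by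
    rcases hs a (Finset.mem_univ a) with h | h
    · exact ⟨1, by rw [Units.val_one, one_smul]; exact h⟩
    · exact ⟨-1, by rw [Units.val_neg, Units.val_one, neg_one_smul]; exact h⟩
  choose c hc using h1
  have hmul : ∀ a b : A, c (a * b) = c a * c b := by
    intro a b
    have e1 : ((c (a * b) : Kˣ) : K) • w = ((c a * c b : Kˣ) : K) • w := by
      rw [← hc, map_mul, Module.End.mul_apply, hc b, map_smul, hc a, smul_smul, Units.val_mul, mul_comm]
    exact Units.ext (smul_left_injective K hw e1)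
  refine ⟨MonoidHom.mk' c hmul, ?_, w, hw, hc⟩
  have e1 : ((c x : Kˣ) : K) • w = ((-1 : Kˣ) : K) • w := by
    rw [← hc, hxw, Units.val_neg, Units.val_one, neg_one_smul]
  exact Units.ext (smul_left_injective K hw e1)

end eigen

/-! ### the characters of the additive group -/

section chars

variable {F K : Type*} [Field F] [Fintype F] [Field K]

/-- the characters of the additive group -/
abbrev XF (F K : Type*) [Field F] [Field K] : Type _ := Multiplicative F →* Kˣ

/-- scaling -/
def sc (v : F) (χ : XF F K) : XF F K := χ.comp (AddMonoidHom.toMultiplicative (AddMonoidHom.mulLeft v))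

omit [Fintype F] in
theorem sc_apply (v : F) (χ : XF F K) (x : F) : sc v χ (Multiplicative.ofAdd x) = χ (Multiplicative.ofAdd (v * x)) :=
  rfl

omit [Fintype F] in
theorem enough (h2 : (2 : K) ≠ 0) (hF : (2 : F) = 0) :
    HasEnoughRootsOfUnity K (Monoid.exponent (Multiplicative F)) := by
  have h : HasEnoughRootsOfUnity K 2 := by
    refine ⟨⟨-1, ?_⟩, inferInstance⟩
    refine IsPrimitiveRoot.mk_of_lt _ (by norm_num) (by norm_num) ?_
    intro l hl hl2 h1
    have : l = 1 := by omega
    rw [this, pow_one] at h1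
    apply h2
    linear_combination - h1
  have hd : Monoid.exponent (Multiplicative F) ∣ 2 := by
    apply Monoid.exponent_dvd_of_forall_pow_eq_one
    intro g
    have h1 : (2 : ℕ) • (Multiplicative.toAdd g) = 0 := by
      rw [nsmul_eq_mul]
      push_cast
      rw [hF, zero_mul]
    exact h1
  exact HasEnoughRootsOfUnity.of_dvd K hd

theorem card_XF (h2 : (2 : K) ≠ 0) (hF : (2 : F) = 0) : Nat.card (XF F K) = Fintype.card F := by
  have := enough (K := K) h2 hF
  obtain ⟨e⟩ := CommGroup.monoidHom_mulEquiv_of_hasEnoughRootsOfUnity (Multiplicative F) K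
  rw [Nat.card_congr e.toEquiv, Nat.card_eq_fintype_card, Fintype.card_multiplicative]

theorem finite_XF (h2 : (2 : K) ≠ 0) (hF : (2 : F) = 0) : Finite (XF F K) := by
  apply Nat.finite_of_card_ne_zero
  rw [card_XF h2 hF]
  exact Fintype.card_ne_zero

theorem sc_surj (h2 : (2 : K) ≠ 0) (hF : (2 : F) = 0) {χ : XF F K} (hχ : χ ≠ 1) (η : XF F K) : ∃ v, sc v χ = η := by
  have := finite_XF (K := K) h2 hF
  have hinj : Function.Injective fun v : F => sc v χ := by
    intro v v' h
    by_contra hne
    apply hχ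
    refine MonoidHom.ext fun x => ?_
    have h1 := DFunLike.congr_fun h (Multiplicative.ofAdd ((v - v')⁻¹ * Multiplicative.toAdd x))
    change χ (Multiplicative.ofAdd _) = χ (Multiplicative.ofAdd _) at h1
    have h2 : χ (Multiplicative.ofAdd ((v - v') * ((v - v')⁻¹ * Multiplicative.toAdd x))) = 1 := by
      rw [sub_mul, ofAdd_sub, map_div, div_eq_one]
      exact h1
    rw [mul_inv_cancel_left₀ (sub_ne_zero.2 hne)] at h2
    exact h2
  have hb : Function.Bijective fun v : F => sc v χ :=
    (Nat.bijective_iff_injective_and_card _).2 ⟨hinj, by rw [card_XF h2 hF, Nat.card_eq_fintype_card]⟩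
  exact hb.2 η

end chars

/-! ### the group `G₂(F)` -/

namespace GTwo

section

variable {F : Type*} [Field F]

theorem hL : InList chevG2 := by simp [InList]

theorem conj_single {r s l : ℕ} {c : ℤ} (hr : r < chevG2.nroots) (hs : s < chevG2.nroots) (hrs : s ≠ r)
    (hneg : s ≠ chevG2.neg r) (h : chevG2.commTerms r s = [(l, c, 1, 1)]) (t u : F) :
    (xe hL s u)⁻¹ * xe hL r t * xe hL s u = xe hL r t * xe hL l ((c : F) * t * u) := by
  have h1 := comm_single hL hr hs hrs hneg h t u
  have h2 : xe hL l (-(c : F) * t * u) = (xe hL l ((c : F) * t * u))⁻¹ := by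
    rw [← xe_neg]
    congr 1
    ring
  rw [h2] at h1
  rw [mul_assoc, inv_mul_eq_iff_eq_mul, ← mul_assoc]
  have h3 := congrArg (fun g => g * xe hL l ((c : F) * t * u)) h1
  simp only [inv_mul_cancel_right] at h3
  exact h3.symm

theorem conj_nil {r s : ℕ} (hr : r < chevG2.nroots) (hs : s < chevG2.nroots) (hrs : s ≠ r)
    (hneg : s ≠ chevG2.neg r) (h : chevG2.commTerms r s = []) (t u : F) :
    (xe hL s u)⁻¹ * xe hL r t * xe hL s u = xe hL r t := by
  rw [mul_assoc, inv_mul_eq_iff_eq_mul]
  exact (comm_nil hL hr hs hrs hneg h t u).symm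

/-- the abelian group `F³` -/
abbrev AG (F : Type*) [Field F] : Type _ := Multiplicative (F × F × F)

/-- `(s, r, q) ↦ x_{2a+b}(s) x_{3a+b}(r) x_{3a+2b}(q)` -/
def uH (F : Type*) [Field F] : AG F →* ↥(chevG2.group F) :=
  MonoidHom.mk' (fun a => xe hL 9 (Multiplicative.toAdd a).1 * xe hL 10 (Multiplicative.toAdd a).2.1 *
    xe hL 11 (Multiplicative.toAdd a).2.2) (by
    intro a b
    have c1 := fun t u : F => comm_nil (F := F) (r := 9) (s := 10) hL (by decide +kernel) (by decide +kernel)
      (by decide) (by decide +kernel) (by decide +kernel) t u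
    have c2 := fun t u : F => comm_nil (F := F) (r := 9) (s := 11) hL (by decide +kernel) (by decide +kernel)
      (by decide) (by decide +kernel) (by decide +kernel) t u
    have c3 := fun t u : F => comm_nil (F := F) (r := 10) (s := 11) hL (by decide +kernel) (by decide +kernel)
      (by decide) (by decide +kernel) (by decide +kernel) t u
    simp only [toAdd_mul, Prod.fst_add, Prod.snd_add, xe_add]
    generalize (Multiplicative.toAdd a).1 = a1
    generalize (Multiplicative.toAdd a).2.1 = a2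
    generalize (Multiplicative.toAdd a).2.2 = a3
    generalize (Multiplicative.toAdd b).1 = b1
    generalize (Multiplicative.toAdd b).2.1 = b2
    generalize (Multiplicative.toAdd b).2.2 = b3
    calc xe hL 9 a1 * xe hL 9 b1 * (xe hL 10 a2 * xe hL 10 b2) * (xe hL 11 a3 * xe hL 11 b3) =
        xe hL 9 a1 * (xe hL 9 b1 * xe hL 10 a2) * (xe hL 10 b2 * xe hL 11 a3) * xe hL 11 b3 := by
          simp only [mul_assoc]
      _ = xe hL 9 a1 * xe hL 10 a2 * (xe hL 9 b1 * xe hL 11 a3) * xe hL 10 b2 * xe hL 11 b3 := by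
          rw [← c1 b1 a2, ← c3 b2 a3]
          simp only [mul_assoc]
      _ = _ := by
          rw [← c2 b1 a3]
          simp only [mul_assoc])

theorem uH_apply (s r q : F) : uH F (Multiplicative.ofAdd (s, r, q)) = xe hL 9 s * xe hL 10 r * xe hL 11 q := rfl

variable {K : Type*} [Field K]

/-- the characters of `F³` -/
def chi (a b c : XF F K) : AG F →* Kˣ :=
  MonoidHom.mk' (fun x => a (Multiplicative.ofAdd (Multiplicative.toAdd x).1) *
    b (Multiplicative.ofAdd (Multiplicative.toAdd x).2.1) * c (Multiplicative.ofAdd (Multiplicative.toAdd x).2.2)) (by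
    intro x y
    simp only [toAdd_mul, Prod.fst_add, Prod.snd_add, ofAdd_add, map_mul]
    generalize a _ = a1
    generalize a _ = a2
    generalize b _ = b1
    generalize b _ = b2
    generalize c _ = c1
    generalize c _ = c2
    simp only [mul_left_comm, mul_comm])

theorem chi_apply (a b c : XF F K) (s r q : F) : chi a b c (Multiplicative.ofAdd (s, r, q)) =
    a (Multiplicative.ofAdd s) * b (Multiplicative.ofAdd r) * c (Multiplicative.ofAdd q) := rfl

theorem chi_inj {a b c a' b' c' : XF F K} (h : chi a b c = chi a' b' c') : a = a' ∧ b = b' ∧ c = c' := by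
  refine ⟨MonoidHom.ext fun x => ?_, MonoidHom.ext fun x => ?_, MonoidHom.ext fun x => ?_⟩
  · have h1 := DFunLike.congr_fun h (Multiplicative.ofAdd (Multiplicative.toAdd x, 0, 0))
    simpa [chi_apply] using h1
  · have h1 := DFunLike.congr_fun h (Multiplicative.ofAdd (0, Multiplicative.toAdd x, 0))
    simpa [chi_apply] using h1
  · have h1 := DFunLike.congr_fun h (Multiplicative.ofAdd (0, 0, Multiplicative.toAdd x))
    simpa [chi_apply] using h1

/-- every character of `F³` is a `chi` -/
theorem exists_chi (χ : AG F →* Kˣ) : ∃ a b c : XF F K, χ = chi a b c := by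
  refine ⟨χ.comp (AddMonoidHom.toMultiplicative (AddMonoidHom.inl F (F × F))),
    χ.comp (AddMonoidHom.toMultiplicative ((AddMonoidHom.inr F (F × F)).comp (AddMonoidHom.inl F F))),
    χ.comp (AddMonoidHom.toMultiplicative ((AddMonoidHom.inr F (F × F)).comp (AddMonoidHom.inr F F))), ?_⟩
  refine MonoidHom.ext fun x => ?_
  obtain ⟨s, r, q⟩ := x
  change χ (Multiplicative.ofAdd (s, r, q)) = χ (Multiplicative.ofAdd (s, 0, 0)) * χ (Multiplicative.ofAdd (0, r, 0)) *
    χ (Multiplicative.ofAdd (0, 0, q))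
  rw [← map_mul, ← map_mul, ← ofAdd_add, ← ofAdd_add]
  simp

/-- the linear maps -/
def m1 (k : F) : AG F →* AG F := MonoidHom.mk' (fun x => Multiplicative.ofAdd ((Multiplicative.toAdd x).1,
    (Multiplicative.toAdd x).2.1 + k * (Multiplicative.toAdd x).1, (Multiplicative.toAdd x).2.2)) (by
  intro x y
  simp only [toAdd_mul, Prod.fst_add, Prod.snd_add, ← ofAdd_add, Prod.mk_add_mk, mul_add]
  congr 3
  ring)

def m2 (k : F) : AG F →* AG F := MonoidHom.mk' (fun x => Multiplicative.ofAdd ((Multiplicative.toAdd x).1,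
    (Multiplicative.toAdd x).2.1, (Multiplicative.toAdd x).2.2 + k * (Multiplicative.toAdd x).1)) (by
  intro x y
  simp only [toAdd_mul, Prod.fst_add, Prod.snd_add, ← ofAdd_add, Prod.mk_add_mk, mul_add]
  congr 3
  ring)

def m3 (k : F) : AG F →* AG F := MonoidHom.mk' (fun x => Multiplicative.ofAdd ((Multiplicative.toAdd x).1,
    (Multiplicative.toAdd x).2.1, (Multiplicative.toAdd x).2.2 + k * (Multiplicative.toAdd x).2.1)) (by
  intro x y
  simp only [toAdd_mul, Prod.fst_add, Prod.snd_add, ← ofAdd_add, Prod.mk_add_mk, mul_add]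
  congr 3
  ring)

def m4 (k : F) : AG F →* AG F := MonoidHom.mk' (fun x => Multiplicative.ofAdd ((Multiplicative.toAdd x).1,
    (Multiplicative.toAdd x).2.1 + k * (Multiplicative.toAdd x).2.2, (Multiplicative.toAdd x).2.2)) (by
  intro x y
  simp only [toAdd_mul, Prod.fst_add, Prod.snd_add, ← ofAdd_add, Prod.mk_add_mk, mul_add]
  congr 3
  ring)

theorem chi_m1 (a b c : XF F K) (k : F) : (chi a b c).comp (m1 k) = chi (a * sc k b) b c := by
  refine MonoidHom.ext fun x => ?_
  obtain ⟨s, r, q⟩ := x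
  change a (Multiplicative.ofAdd s) * b (Multiplicative.ofAdd (r + k * s)) * c (Multiplicative.ofAdd q) =
    a (Multiplicative.ofAdd s) * b (Multiplicative.ofAdd (k * s)) * b (Multiplicative.ofAdd r) *
      c (Multiplicative.ofAdd q)
  rw [ofAdd_add, map_mul]
  generalize a _ = a1
  generalize b _ = b1
  generalize b _ = b2
  generalize c _ = c1
  simp only [mul_left_comm, mul_comm]

theorem chi_m2 (a b c : XF F K) (k : F) : (chi a b c).comp (m2 k) = chi (a * sc k c) b c := by
  refine MonoidHom.ext fun x => ?_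
  obtain ⟨s, r, q⟩ := x
  change a (Multiplicative.ofAdd s) * b (Multiplicative.ofAdd r) * c (Multiplicative.ofAdd (q + k * s)) =
    a (Multiplicative.ofAdd s) * c (Multiplicative.ofAdd (k * s)) * b (Multiplicative.ofAdd r) *
      c (Multiplicative.ofAdd q)
  rw [ofAdd_add, map_mul]
  generalize a _ = a1
  generalize b _ = b1
  generalize c _ = c1
  generalize c _ = c2
  simp only [mul_left_comm, mul_comm]

theorem chi_m3 (a b c : XF F K) (k : F) : (chi a b c).comp (m3 k) = chi a (b * sc k c) c := by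
  refine MonoidHom.ext fun x => ?_
  obtain ⟨s, r, q⟩ := x
  change a (Multiplicative.ofAdd s) * b (Multiplicative.ofAdd r) * c (Multiplicative.ofAdd (q + k * r)) =
    a (Multiplicative.ofAdd s) * (b (Multiplicative.ofAdd r) * c (Multiplicative.ofAdd (k * r))) *
      c (Multiplicative.ofAdd q)
  rw [ofAdd_add, map_mul]
  generalize a _ = a1
  generalize b _ = b1
  generalize c _ = c1
  generalize c _ = c2
  simp only [mul_left_comm, mul_comm]

theorem chi_m4 (a b c : XF F K) (k : F) : (chi a b c).comp (m4 k) = chi a b (c * sc k b) := by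
  refine MonoidHom.ext fun x => ?_
  obtain ⟨s, r, q⟩ := x
  change a (Multiplicative.ofAdd s) * b (Multiplicative.ofAdd (r + k * q)) * c (Multiplicative.ofAdd q) =
    a (Multiplicative.ofAdd s) * b (Multiplicative.ofAdd r) *
      (c (Multiplicative.ofAdd q) * b (Multiplicative.ofAdd (k * q)))
  rw [ofAdd_add, map_mul]
  generalize a _ = a1
  generalize b _ = b1
  generalize b _ = b2
  generalize c _ = c1
  simp only [mul_left_comm, mul_comm]

theorem conj_m1 (v : F) (x : AG F) : uH F (m1 (((-3 : ℤ) : F) * v) x) = (xe hL 7 v)⁻¹ * uH F x * xe hL 7 v := by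
  obtain ⟨s, r, q⟩ := x
  have e9 := conj_single (F := F) (r := 9) (s := 7) (l := 10) (c := -3) (by decide +kernel) (by decide +kernel)
    (by decide) (by decide +kernel) (by decide +kernel) s v
  have e10 := conj_nil (F := F) (r := 10) (s := 7) (by decide +kernel) (by decide +kernel)
    (by decide) (by decide +kernel) (by decide +kernel) r v
  have e11 := conj_nil (F := F) (r := 11) (s := 7) (by decide +kernel) (by decide +kernel)
    (by decide) (by decide +kernel) (by decide +kernel) q v
  change xe hL 9 s * xe hL 10 (r + ((-3 : ℤ) : F) * v * s) * xe hL 11 q =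
    (xe hL 7 v)⁻¹ * (xe hL 9 s * xe hL 10 r * xe hL 11 q) * xe hL 7 v
  have e : (xe hL 7 v)⁻¹ * (xe hL 9 s * xe hL 10 r * xe hL 11 q) * xe hL 7 v =
      ((xe hL 7 v)⁻¹ * xe hL 9 s * xe hL 7 v) * ((xe hL 7 v)⁻¹ * xe hL 10 r * xe hL 7 v) *
        ((xe hL 7 v)⁻¹ * xe hL 11 q * xe hL 7 v) := by group
  have e' : r + ((-3 : ℤ) : F) * v * s = ((-3 : ℤ) : F) * s * v + r := by ring
  rw [e, e9, e10, e11, e', xe_add]
  simp only [mul_assoc]

theorem conj_m2 (v : F) (x : AG F) : uH F (m2 (((-3 : ℤ) : F) * v) x) = (xe hL 8 v)⁻¹ * uH F x * xe hL 8 v := by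
  obtain ⟨s, r, q⟩ := x
  have e9 := conj_single (F := F) (r := 9) (s := 8) (l := 11) (c := -3) (by decide +kernel) (by decide +kernel)
    (by decide) (by decide +kernel) (by decide +kernel) s v
  have e10 := conj_nil (F := F) (r := 10) (s := 8) (by decide +kernel) (by decide +kernel)
    (by decide) (by decide +kernel) (by decide +kernel) r v
  have e11 := conj_nil (F := F) (r := 11) (s := 8) (by decide +kernel) (by decide +kernel)
    (by decide) (by decide +kernel) (by decide +kernel) q v
  have c3 := comm_nil (F := F) (r := 10) (s := 11) hL (by decide +kernel) (by decide +kernel)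
      (by decide) (by decide +kernel) (by decide +kernel) r (((-3 : ℤ) : F) * s * v)
  change xe hL 9 s * xe hL 10 r * xe hL 11 (q + ((-3 : ℤ) : F) * v * s) =
    (xe hL 8 v)⁻¹ * (xe hL 9 s * xe hL 10 r * xe hL 11 q) * xe hL 8 v
  have e : (xe hL 8 v)⁻¹ * (xe hL 9 s * xe hL 10 r * xe hL 11 q) * xe hL 8 v =
      ((xe hL 8 v)⁻¹ * xe hL 9 s * xe hL 8 v) * ((xe hL 8 v)⁻¹ * xe hL 10 r * xe hL 8 v) *
        ((xe hL 8 v)⁻¹ * xe hL 11 q * xe hL 8 v) := by group
  rw [e, e9, e10, e11, mul_assoc (xe hL 9 s) (xe hL 11 _), c3, ← mul_assoc (xe hL 9 s), mul_assoc _ (xe hL 11 _),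
    ← xe_add]
  congr 2
  ring

theorem conj_m3 (v : F) (x : AG F) : uH F (m3 (((-1 : ℤ) : F) * v) x) = (xe hL 6 v)⁻¹ * uH F x * xe hL 6 v := by
  obtain ⟨s, r, q⟩ := x
  have e9 := conj_nil (F := F) (r := 9) (s := 6) (by decide +kernel) (by decide +kernel)
    (by decide) (by decide +kernel) (by decide +kernel) s v
  have e10 := conj_single (F := F) (r := 10) (s := 6) (l := 11) (c := -1) (by decide +kernel) (by decide +kernel)
    (by decide) (by decide +kernel) (by decide +kernel) r v
  have e11 := conj_nil (F := F) (r := 11) (s := 6) (by decide +kernel) (by decide +kernel)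
    (by decide) (by decide +kernel) (by decide +kernel) q v
  change xe hL 9 s * xe hL 10 r * xe hL 11 (q + ((-1 : ℤ) : F) * v * r) =
    (xe hL 6 v)⁻¹ * (xe hL 9 s * xe hL 10 r * xe hL 11 q) * xe hL 6 v
  have e : (xe hL 6 v)⁻¹ * (xe hL 9 s * xe hL 10 r * xe hL 11 q) * xe hL 6 v =
      ((xe hL 6 v)⁻¹ * xe hL 9 s * xe hL 6 v) * ((xe hL 6 v)⁻¹ * xe hL 10 r * xe hL 6 v) *
        ((xe hL 6 v)⁻¹ * xe hL 11 q * xe hL 6 v) := by group
  rw [e, e9, e10, e11, ← mul_assoc (xe hL 9 s), mul_assoc _ (xe hL 11 _), ← xe_add]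
  congr 2
  ring

theorem conj_m4 (v : F) (x : AG F) : uH F (m4 (((-1 : ℤ) : F) * v) x) = (xe hL 5 v)⁻¹ * uH F x * xe hL 5 v := by
  obtain ⟨s, r, q⟩ := x
  have e9 := conj_nil (F := F) (r := 9) (s := 5) (by decide +kernel) (by decide +kernel)
    (by decide) (by decide +kernel) (by decide +kernel) s v
  have e10 := conj_nil (F := F) (r := 10) (s := 5) (by decide +kernel) (by decide +kernel)
    (by decide) (by decide +kernel) (by decide +kernel) r v
  have e11 := conj_single (F := F) (r := 11) (s := 5) (l := 10) (c := -1) (by decide +kernel) (by decide +kernel)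
    (by decide) (by decide +kernel) (by decide +kernel) q v
  have c3 := comm_nil (F := F) (r := 10) (s := 11) hL (by decide +kernel) (by decide +kernel)
      (by decide) (by decide +kernel) (by decide +kernel) (((-1 : ℤ) : F) * q * v) q
  change xe hL 9 s * xe hL 10 (r + ((-1 : ℤ) : F) * v * q) * xe hL 11 q =
    (xe hL 5 v)⁻¹ * (xe hL 9 s * xe hL 10 r * xe hL 11 q) * xe hL 5 v
  have e : (xe hL 5 v)⁻¹ * (xe hL 9 s * xe hL 10 r * xe hL 11 q) * xe hL 5 v =
      ((xe hL 5 v)⁻¹ * xe hL 9 s * xe hL 5 v) * ((xe hL 5 v)⁻¹ * xe hL 10 r * xe hL 5 v) *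
        ((xe hL 5 v)⁻¹ * xe hL 11 q * xe hL 5 v) := by group
  rw [e, e9, e10, e11, c3, ← mul_assoc, mul_assoc (xe hL 9 s) (xe hL 10 r), ← xe_add]
  congr 3
  ring

/-! ### the orbit of weights -/

variable {U : Type*} [AddCommGroup U] [Module K U] (ρ : ↥(chevG2.group F) →* Module.End K U)

variable {ρ} in
theorem w1 {a b c : XF F K} (h : HasWeight (ρ.comp (uH F)) (chi a b c)) (v : F) :
    HasWeight (ρ.comp (uH F)) (chi (a * sc (((-3 : ℤ) : F) * v) b) b c) := by
  rw [← chi_m1]
  exact h.conj (xe hL 7 v) _ (conj_m1 v)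

variable {ρ} in
theorem w2 {a b c : XF F K} (h : HasWeight (ρ.comp (uH F)) (chi a b c)) (v : F) :
    HasWeight (ρ.comp (uH F)) (chi (a * sc (((-3 : ℤ) : F) * v) c) b c) := by
  rw [← chi_m2]
  exact h.conj (xe hL 8 v) _ (conj_m2 v)

variable {ρ} in
theorem w3 {a b c : XF F K} (h : HasWeight (ρ.comp (uH F)) (chi a b c)) (v : F) :
    HasWeight (ρ.comp (uH F)) (chi a (b * sc (((-1 : ℤ) : F) * v) c) c) := by
  rw [← chi_m3]
  exact h.conj (xe hL 6 v) _ (conj_m3 v)

variable {ρ} in
theorem w4 {a b c : XF F K} (h : HasWeight (ρ.comp (uH F)) (chi a b c)) (v : F) :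
    HasWeight (ρ.comp (uH F)) (chi a b (c * sc (((-1 : ℤ) : F) * v) b)) := by
  rw [← chi_m4]
  exact h.conj (xe hL 5 v) _ (conj_m4 v)

variable [Fintype F]

theorem sc_surj' (h2 : (2 : K) ≠ 0) (hF : (2 : F) = 0) {χ : XF F K} (hχ : χ ≠ 1) (η ζ : XF F K) {k : F} (hk : k ≠ 0) :
    ∃ v, η * sc (k * v) χ = ζ := by
  obtain ⟨v, hv⟩ := sc_surj h2 hF hχ (η⁻¹ * ζ)
  refine ⟨k⁻¹ * v, ?_⟩
  rw [mul_inv_cancel_left₀ hk, hv]
  exact mul_inv_cancel_left η ζ

omit [Fintype F] in
theorem three_ne (hF : (2 : F) = 0) : (((-3 : ℤ) : F)) ≠ 0 := by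
  intro h
  have h1 : (1 : F) = 0 := by
    have h2 : ((-3 : ℤ) : F) = -(2 + 1) := by push_cast; ring
    rw [h2, hF, zero_add, neg_eq_zero] at h
    exact h
  exact one_ne_zero h1

omit [Fintype F] in
theorem one_ne : (((-1 : ℤ) : F)) ≠ 0 := by
  push_cast
  exact neg_ne_zero.2 one_ne_zero

variable {ρ} in
theorem all_weights (h2 : (2 : K) ≠ 0) (hF : (2 : F) = 0) {a₀ b₀ c₀ : XF F K}
    (h : HasWeight (ρ.comp (uH F)) (chi a₀ b₀ c₀)) (h0 : ¬ (b₀ = 1 ∧ c₀ = 1)) {a b c : XF F K}
    (h1 : ¬ (b = 1 ∧ c = 1)) : HasWeight (ρ.comp (uH F)) (chi a b c) := by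
  have s1 : ∀ {a b c : XF F K}, HasWeight (ρ.comp (uH F)) (chi a b c) → b ≠ 1 → ∀ a', HasWeight (ρ.comp (uH F))
      (chi a' b c) := by
    intro a b c h hb a'
    obtain ⟨v, hv⟩ := sc_surj' h2 hF hb a a' (three_ne hF)
    rw [← hv]
    exact w1 h v
  have s2 : ∀ {a b c : XF F K}, HasWeight (ρ.comp (uH F)) (chi a b c) → c ≠ 1 → ∀ a', HasWeight (ρ.comp (uH F))
      (chi a' b c) := by
    intro a b c h hc a'
    obtain ⟨v, hv⟩ := sc_surj' h2 hF hc a a' (three_ne hF)
    rw [← hv]
    exact w2 h v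
  have s3 : ∀ {a b c : XF F K}, HasWeight (ρ.comp (uH F)) (chi a b c) → c ≠ 1 → ∀ b', HasWeight (ρ.comp (uH F))
      (chi a b' c) := by
    intro a b c h hc b'
    obtain ⟨v, hv⟩ := sc_surj' h2 hF hc b b' one_ne
    rw [← hv]
    exact w3 h v
  have s4 : ∀ {a b c : XF F K}, HasWeight (ρ.comp (uH F)) (chi a b c) → b ≠ 1 → ∀ c', HasWeight (ρ.comp (uH F))
      (chi a b c') := by
    intro a b c h hb c'
    obtain ⟨v, hv⟩ := sc_surj' h2 hF hb c c' one_ne
    rw [← hv]
    exact w4 h v
  -- from a nontrivial `b`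
  have t1 : ∀ {a₀ b₀ c₀ : XF F K}, HasWeight (ρ.comp (uH F)) (chi a₀ b₀ c₀) → b₀ ≠ 1 →
      HasWeight (ρ.comp (uH F)) (chi a₀ b c) := by
    intro a₀ b₀ c₀ h hb
    by_cases hc : c = 1
    · have hb' : b ≠ 1 := fun hb' => h1 ⟨hb', hc⟩
      exact s4 (s3 (s4 h hb b₀) hb b) hb' c
    · exact s3 (s4 h hb c) hc b
  have t2 : HasWeight (ρ.comp (uH F)) (chi a₀ b c) := by
    by_cases hb : b₀ = 1
    · have hc : c₀ ≠ 1 := fun hc => h0 ⟨hb, hc⟩
      exact t1 (s3 h hc c₀) hc
    · exact t1 h hb
  by_cases hb : b = 1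
  · exact s2 t2 (fun hc => h1 ⟨hb, hc⟩) a
  · exact s1 t2 hb a

/-- **The degree bound**: a representation of `G₂(q)`, `q` even, over a field of characteristic not 2 in which
`X_{3a+2b}` acts nontrivially has degree at least `q (q ^ 2 - 1)`. -/
theorem dim_ge [FiniteDimensional K U] (h2 : (2 : K) ≠ 0) (hF : (2 : F) = 0) (t : F) (ht : ρ (xe hL 11 t) ≠ 1) :
    Fintype.card F * (Fintype.card F ^ 2 - 1) ≤ Module.finrank K U := by
  classical
  have hA : ∀ a : AG F, a * a = 1 := by
    intro a
    have h1 : (2 : F) • (Multiplicative.toAdd a) = 0 := by rw [hF, zero_smul]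
    have h3 : Multiplicative.toAdd a + Multiplicative.toAdd a = 0 := by rw [← two_smul F, h1]
    exact h3
  obtain ⟨χ, hχ, hw⟩ := exists_eigen hA (ρ.comp (uH F)) (Multiplicative.ofAdd (0, 0, t)) (by
    rw [MonoidHom.comp_apply, uH_apply, xe_zero, xe_zero, one_mul, one_mul]
    exact ht)
  obtain ⟨a, b, c, rfl⟩ := exists_chi χ
  have h0 : ¬ (b = 1 ∧ c = 1) := by
    rintro ⟨rfl, rfl⟩
    rw [chi_apply, MonoidHom.one_apply, MonoidHom.one_apply, ofAdd_zero, map_one, one_mul, one_mul] at hχ
    have h3 := congrArg (fun y : Kˣ => (y : K)) hχ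
    simp only [Units.val_one, Units.val_neg] at h3
    apply h2
    linear_combination h3
  have := finite_XF (F := F) (K := K) h2 hF
  have : Fintype (XF F K) := Fintype.ofFinite _
  have key := card_le_finrank (ρ.comp (uH F)) (ι := XF F K × {t : XF F K × XF F K // t ≠ 1})
    (fun i => chi i.1 i.2.1.1 i.2.1.2) (by
      rintro ⟨a, ⟨b, c⟩, h⟩ ⟨a', ⟨b', c'⟩, h'⟩ hh
      obtain ⟨e1, e2, e3⟩ := chi_inj hh
      simp only at e1 e2 e3
      subst e1 e2 e3
      rfl) (by
      rintro ⟨a', ⟨b', c'⟩, h'⟩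
      exact all_weights h2 hF hw h0 (fun hh => h' (Prod.ext hh.1 hh.2)))
  have hc : Nat.card {t : XF F K × XF F K // t ≠ 1} = Fintype.card F ^ 2 - 1 := by
    have h4 := card_XF (F := F) (K := K) h2 hF
    rw [Nat.card_eq_fintype_card] at h4
    rw [Nat.card_eq_fintype_card, Fintype.card_subtype_compl, Fintype.card_subtype_eq, Fintype.card_prod, h4, sq]
  rw [Nat.card_prod, hc, card_XF h2 hF] at key
  exact key

/-- the number of characters with value `-1` at `t` -/
theorem card_neg (h2 : (2 : K) ≠ 0) (hF : (2 : F) = 0) (t : F) (ht : ∃ c : XF F K, c (Multiplicative.ofAdd t) = -1) :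
    Nat.card {c : XF F K // c (Multiplicative.ofAdd t) = -1} * 2 = Fintype.card F := by
  classical
  have := finite_XF (F := F) (K := K) h2 hF
  have : Fintype (XF F K) := Fintype.ofFinite _
  obtain ⟨c₀, hc₀⟩ := ht
  have hne : (-1 : Kˣ) ≠ 1 := by
    intro h
    have h3 := congrArg (fun y : Kˣ => (y : K)) h
    simp only [Units.val_one, Units.val_neg] at h3
    apply h2
    linear_combination - h3
  have hpm : ∀ c : XF F K, c (Multiplicative.ofAdd t) = -1 ∨ c (Multiplicative.ofAdd t) = 1 := by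
    intro c
    have h1 : c (Multiplicative.ofAdd t) * c (Multiplicative.ofAdd t) = 1 := by
      rw [← map_mul, ← ofAdd_add, ← two_mul, hF, zero_mul, ofAdd_zero, map_one]
    have h3 := congrArg (fun y : Kˣ => (y : K)) h1
    simp only [Units.val_mul, Units.val_one] at h3
    rcases mul_self_eq_one_iff.1 h3 with h4 | h4
    · exact Or.inr (Units.ext h4)
    · exact Or.inl (Units.ext (by rw [Units.val_neg, Units.val_one]; exact h4))
  have e1 : (Finset.univ.filter fun c : XF F K => c (Multiplicative.ofAdd t) = -1).card =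
      (Finset.univ.filter fun c : XF F K => ¬ c (Multiplicative.ofAdd t) = -1).card := by
    refine Finset.card_nbij' (fun c => c₀ * c) (fun c => c₀⁻¹ * c) ?_ ?_ ?_ ?_
    · intro c hc
      rw [Finset.mem_coe, Finset.mem_filter] at hc ⊢
      refine ⟨Finset.mem_univ _, ?_⟩
      rw [MonoidHom.mul_apply, hc₀, hc.2, neg_mul_neg, one_mul]
      exact hne.symm
    · intro c hc
      rw [Finset.mem_coe, Finset.mem_filter] at hc ⊢
      refine ⟨Finset.mem_univ _, ?_⟩
      rw [MonoidHom.mul_apply, MonoidHom.inv_apply, hc₀, (hpm c).resolve_left hc.2, mul_one, inv_neg, inv_one]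
    · intro c _
      exact inv_mul_cancel_left c₀ c
    · intro c _
      exact mul_inv_cancel_left c₀ c
  have e2 := Finset.card_filter_add_card_filter_not (s := (Finset.univ : Finset (XF F K)))
    (fun c : XF F K => c (Multiplicative.ofAdd t) = -1)
  have h4 := card_XF (F := F) (K := K) h2 hF
  rw [Nat.card_eq_fintype_card] at h4
  rw [← e1, Finset.card_univ, h4] at e2
  rw [Nat.card_eq_fintype_card, Fintype.card_subtype]
  omega

/-- **The degree bound for the eigenspace of an involution** -/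
theorem neg_ge [FiniteDimensional K U] (h2 : (2 : K) ≠ 0) (hF : (2 : F) = 0) (t : F) (ht : ρ (xe hL 11 t) ≠ 1) :
    Fintype.card F * (Fintype.card F * (Fintype.card F / 2)) ≤
      Module.finrank K (LinearMap.ker (ρ (xe hL 11 t) + 1)) := by
  classical
  have hA : ∀ a : AG F, a * a = 1 := by
    intro a
    have h1 : (2 : F) • (Multiplicative.toAdd a) = 0 := by rw [hF, zero_smul]
    have h3 : Multiplicative.toAdd a + Multiplicative.toAdd a = 0 := by rw [← two_smul F, h1]
    exact h3
  have hut : uH F (Multiplicative.ofAdd (0, 0, t)) = xe hL 11 t := by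
    rw [uH_apply, xe_zero, xe_zero, one_mul, one_mul]
  obtain ⟨χ, hχ, hw⟩ := exists_eigen hA (ρ.comp (uH F)) (Multiplicative.ofAdd (0, 0, t)) (by
    rw [MonoidHom.comp_apply, hut]
    exact ht)
  obtain ⟨a, b, c, rfl⟩ := exists_chi χ
  have hne : (-1 : Kˣ) ≠ 1 := by
    intro h
    have h3 := congrArg (fun y : Kˣ => (y : K)) h
    simp only [Units.val_one, Units.val_neg] at h3
    apply h2
    linear_combination - h3
  have hct : c (Multiplicative.ofAdd t) = -1 := by
    rw [chi_apply, ofAdd_zero, map_one, map_one, one_mul, one_mul] at hχ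
    exact hχ
  have h0 : ¬ (b = 1 ∧ c = 1) := by
    rintro ⟨rfl, rfl⟩
    rw [MonoidHom.one_apply] at hct
    exact hne hct.symm
  have := finite_XF (F := F) (K := K) h2 hF
  set W : Submodule K U := LinearMap.ker (ρ (xe hL 11 t) + 1) with hWdef
  have hmem : ∀ w : U, w ∈ W ↔ ρ (xe hL 11 t) w = -w := by
    intro w
    rw [hWdef, LinearMap.mem_ker, LinearMap.add_apply, Module.End.one_apply, add_eq_zero_iff_eq_neg]
  have hW : ∀ (x : AG F), ∀ w ∈ W, (ρ.comp (uH F)) x w ∈ W := by
    intro x w hw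
    rw [hmem] at hw ⊢
    rw [← hut] at hw ⊢
    have h5 : ρ (uH F (Multiplicative.ofAdd (0, 0, t))) ((ρ.comp (uH F)) x w) =
        (ρ.comp (uH F)) x (ρ (uH F (Multiplicative.ofAdd (0, 0, t))) w) := by
      rw [MonoidHom.comp_apply, ← Module.End.mul_apply, ← Module.End.mul_apply, ← map_mul, ← map_mul, ← map_mul,
        ← map_mul, mul_comm]
    rw [h5, hw, map_neg]
  let r' : AG F →* Module.End K W :=
    { toFun := fun x => ((ρ.comp (uH F)) x).restrict (hW x)
      map_one' := by
        apply LinearMap.ext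
        intro w
        apply Subtype.ext
        rw [LinearMap.coe_restrict_apply, map_one]
        rfl
      map_mul' := by
        intro x y
        apply LinearMap.ext
        intro w
        apply Subtype.ext
        rw [LinearMap.coe_restrict_apply, map_mul]
        rfl }
  have key := card_le_finrank r' (ι := XF F K × XF F K × {c : XF F K // c (Multiplicative.ofAdd t) = -1})
    (fun i => chi i.1 i.2.1 i.2.2.1) (by
      rintro ⟨a, b, c, h⟩ ⟨a', b', c', h'⟩ hh
      obtain ⟨e1, e2, e3⟩ := chi_inj hh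
      simp only at e1 e2 e3
      subst e1 e2 e3
      rfl) (by
      rintro ⟨a', b', c', h'⟩
      have h6 := all_weights (a := a') (b := b') (c := c') h2 hF hw h0 (fun hh => by
        rw [hh.2, MonoidHom.one_apply] at h'
        exact hne h'.symm)
      obtain ⟨w, hw0, hw1⟩ := h6
      have hwW : w ∈ W := by
        rw [hmem]
        have h7 := hw1 (Multiplicative.ofAdd (0, 0, t))
        rw [MonoidHom.comp_apply, hut, chi_apply, ofAdd_zero, map_one, map_one, one_mul, one_mul, h', Units.val_neg,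
          Units.val_one, neg_one_smul] at h7
        exact h7
      refine ⟨⟨w, hwW⟩, fun h => hw0 (congrArg Subtype.val h), fun x => Subtype.ext ?_⟩
      exact hw1 x)
  have hc := card_neg (K := K) h2 hF t ⟨c, hct⟩
  have hc' : Nat.card {c : XF F K // c (Multiplicative.ofAdd t) = -1} = Fintype.card F / 2 := by omega
  rw [Nat.card_prod, Nat.card_prod, hc', card_XF h2 hF] at key
  exact key

end

end GTwo

end Cfsg.Agent.H277.RIM
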