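import Cfsg.Agent.H277.RIM.GTwoDim
import Cfsg.Agent.H395.RIM.EKPsl
import Cfsg.Agent.H388.RI.Use
import Cfsg.Agent.H88.RIM.T3
import Cfsg.Agent.H120.GOtherE
import Cfsg.Agent.S1055
import Cfsg.Agent.S1059
import Cfsg.Agent.S2102

/-!
# S4816, `RIM-X-G24` (helper277): `EK p G₂(4)` for `p = 5, 7, 13`

* `ek_of_noPEx` : multiplier of prime order and `NoPEx p S` give `EK p S`;
* `index_two` : a product of two `p`-elements has `|V : C_V(t)| ≤ n_p ^ 2`;
* `ek_five`, `ek_seven`, `ek_thirteen`.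
-/

set_option autoImplicit false

namespace Cfsg.Agent.H277.RIM

open Cfsg Cfsg.Lie Cfsg.Agent.H665.RIM Cfsg.Agent.H934.HeisChev

open scoped commutatorElement

universe u v

/-- **the reduction of `EK` to the simple group** -/
theorem ek_of_noPEx {S : Type u} [Group S] {p r : ℕ} (hr : r.Prime) (hm : HasCyclicSchurMultiplier S r)
    (h : NoPEx.{u} p S) : EK p S := by
  intro H V _ _ _ _ _ K N φ π hC hπ hker hcen
  have hperf : Group.IsPerfect H := ⟨hC.perf⟩
  have hKc : K ≤ Subgroup.center H := fun k hk =>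
    Cfsg.Agent.H487.mem_center_of_commutator_mem_center hperf k fun h => hC.cen (hcen k hk h)
  have hstem : IsStemExtension π :=
    ⟨hπ, by rw [hker]; exact hKc, by rw [hC.perf]; exact le_top⟩
  have hcard : Nat.card K ∣ r := by
    have := Cfsg.Agent.H395.RIM.EKPsl.card_dvd hm hstem
    rwa [hker] at this
  have hNK : N = K := by
    apply Subgroup.eq_of_le_of_card_ge hC.NK
    rcases (Nat.dvd_prime hr).1 ((Subgroup.card_dvd_of_le hC.NK).trans hcard) with h8 | h8
    · exact absurd (Subgroup.card_eq_one.1 h8) hC.Nne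
    · rw [h8]
      exact Nat.le_of_dvd hr.pos hcard
  let τ : H →* AddMonoid.End V := DistribMulAction.toAddMonoidEnd H V
  have hτk : π.ker ≤ τ.ker := by
    intro x hx
    rw [hker, ← hNK] at hx
    rw [MonoidHom.mem_ker]
    apply AddMonoidHom.ext
    intro v
    exact (hC.ker x).2 hx v
  let ρ : S →* AddMonoid.End V :=
    (QuotientGroup.lift π.ker τ hτk).comp (QuotientGroup.quotientKerEquivOfSurjective π hπ).symm.toMonoidHom
  have hρ : ∀ (h : H) (v : V), ρ (π h) v = h • v := by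
    intro h v
    have : (QuotientGroup.quotientKerEquivOfSurjective π hπ).symm (π h) = (h : H ⧸ π.ker) := by
      rw [MulEquiv.symm_apply_eq]
      rfl
    change QuotientGroup.lift π.ker τ hτk ((QuotientGroup.quotientKerEquivOfSurjective π hπ).symm (π h)) v = _
    rw [this]
    rfl
  let _ : DistribMulAction S V := DistribMulAction.compHom V ρ
  have hsm : ∀ (h : H) (v : V), (π h) • v = h • v := fun h v => hρ h v
  refine h V hC.exp hC.nt ?_ ?_ ?_
  · intro s hs
    obtain ⟨h, rfl⟩ := hπ s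
    have h1 : h ∈ π.ker := by
      rw [hker, ← hNK, ← hC.ker]
      intro v
      rw [← hsm]
      exact hs v
    exact h1
  · intro W hW
    refine hC.irr W fun h w hw => ?_
    rw [← hsm]
    exact hW _ w hw
  · intro v
    have h1 : MulAction.stabilizer H v = (MulAction.stabilizer S v).comap π := by
      ext x
      rw [MulAction.mem_stabilizer_iff, Subgroup.mem_comap, MulAction.mem_stabilizer_iff, hsm]
    have h2 := hC.P1 v
    rwa [h1, Subgroup.index_comap_of_surjective _ hπ] at h2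

/-! ### fixed points -/

section fix

open Cfsg.Agent.H88.RIM

variable {G V : Type*} [Group G] [Finite G] [AddCommGroup V] [Finite V] [DistribMulAction G V]

/-- a `p`-element -/
theorem index_elt {p : ℕ} [hp : Fact p.Prime] (horb : ∀ v : V, ¬ p ∣ (MulAction.stabilizer G v).index) {a : G}
    (ha : IsPGroup p (Subgroup.zpowers a)) : (fxV V (Subgroup.zpowers a)).index ≤ Nat.card G := by
  obtain ⟨Q, hQ⟩ := ha.exists_le_sylow
  have h1 := index_le_card_sylow (V := V) Q horb
  have h2 : fxV V (Q : Subgroup G) ≤ fxV V (Subgroup.zpowers a) := fun v hv g hg => hv g (hQ hg)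
  have h3 : (fxV V (Subgroup.zpowers a)).index ≤ (fxV V (Q : Subgroup G)).index :=
    Nat.le_of_dvd (Nat.pos_of_ne_zero AddSubgroup.index_ne_zero_of_finite) (AddSubgroup.index_dvd_of_le h2)
  have h4 : Nat.card (Sylow p G) ≤ Nat.card G :=
    Nat.le_of_dvd Nat.card_pos (Q.card_dvd_index.trans (Subgroup.index_dvd_card _))
  omega

/-- **the product of two `p`-elements** -/
theorem index_two {p : ℕ} [hp : Fact p.Prime] (horb : ∀ v : V, ¬ p ∣ (MulAction.stabilizer G v).index) {a b : G}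
    (ha : IsPGroup p (Subgroup.zpowers a)) (hb : IsPGroup p (Subgroup.zpowers b)) :
    (fxV V (Subgroup.zpowers (a * b))).index ≤ Nat.card G * Nat.card G := by
  have h1 : fxV V (Subgroup.zpowers a) ⊓ fxV V (Subgroup.zpowers b) ≤ fxV V (Subgroup.zpowers (a * b)) := by
    rintro v ⟨hv1, hv2⟩
    have h3 : a * b ∈ MulAction.stabilizer G v := by
      rw [MulAction.mem_stabilizer_iff, mul_smul, hv2 b (Subgroup.mem_zpowers b), hv1 a (Subgroup.mem_zpowers a)]
    intro g hg
    exact (Subgroup.zpowers_le.2 h3) hg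
  have h2 : (fxV V (Subgroup.zpowers (a * b))).index ≤
      (fxV V (Subgroup.zpowers a) ⊓ fxV V (Subgroup.zpowers b)).index :=
    Nat.le_of_dvd (Nat.pos_of_ne_zero AddSubgroup.index_ne_zero_of_finite) (AddSubgroup.index_dvd_of_le h1)
  have h3 := AddSubgroup.index_inf_le (H := fxV V (Subgroup.zpowers a)) (K := fxV V (Subgroup.zpowers b))
  exact h2.trans (h3.trans (Nat.mul_le_mul (index_elt horb ha) (index_elt horb hb)))

end fix

/-! ### modules of `G₂(q)`, `q` even -/

namespace GTwo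

open Cfsg.Agent.H88.RIM

variable {F : Type v} [Field F] [Fintype F] {V : Type*} [AddCommGroup V] [Finite V]
  [DistribMulAction ↥(chevG2.group F) V]

/-- the module over the prime field -/
def toLin (p : ℕ) (G V : Type*) [Group G] [AddCommGroup V] [Module (ZMod p) V] [DistribMulAction G V] :
    G →* Module.End (ZMod p) V where
  toFun h := AddMonoidHom.toZModLinearMap p (DistribSMul.toAddMonoidHom V h)
  map_one' := by
    apply LinearMap.ext
    intro v
    exact one_smul G v
  map_mul' a b := by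
    apply LinearMap.ext
    intro v
    exact mul_smul a b v

theorem toLin_apply {p : ℕ} {G V : Type*} [Group G] [AddCommGroup V] [Module (ZMod p) V] [DistribMulAction G V]
    (h : G) (v : V) : toLin p G V h v = h • v := rfl

theorem card_sub {p : ℕ} [Fact p.Prime] {V : Type*} [AddCommGroup V] [Finite V] [Module (ZMod p) V]
    (W : Submodule (ZMod p) V) : Nat.card W = p ^ Module.finrank (ZMod p) W := by
  rw [Module.natCard_eq_pow_finrank (K := ZMod p), Nat.card_zmod]

theorem two_ne {p : ℕ} [hp : Fact p.Prime] (hp2 : p ≠ 2) : (2 : ZMod p) ≠ 0 := by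
  intro h
  have h1 : ((2 : ℕ) : ZMod p) = 0 := by exact_mod_cast h
  rw [ZMod.natCast_eq_zero_iff] at h1
  exact hp2 ((Nat.prime_dvd_prime_iff_eq hp.1 Nat.prime_two).1 h1)

/-- **the order of a module** -/
theorem card_ge' {p : ℕ} [hp : Fact p.Prime] [Module (ZMod p) V] (hp2 : p ≠ 2) (hF : (2 : F) = 0) (t : F)
    (ht : ∃ v : V, (xe hL 11 t : ↥(chevG2.group F)) • v ≠ v) :
    p ^ (Fintype.card F * (Fintype.card F ^ 2 - 1)) ≤ Nat.card V := by
  have hfd : FiniteDimensional (ZMod p) V := Module.Finite.of_finite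
  let ρ := toLin p ↥(chevG2.group F) V
  have hρ : ∀ g (v : V), ρ g v = g • v := fun g v => rfl
  obtain ⟨v, hv⟩ := ht
  have h1 := dim_ge ρ (two_ne hp2) hF t (fun h => hv (by rw [← hρ, h, Module.End.one_apply]))
  have h2 : Nat.card V = p ^ Module.finrank (ZMod p) V := by
    rw [Module.natCard_eq_pow_finrank (K := ZMod p) (V := V), Nat.card_zmod]
  rw [h2]
  exact Nat.pow_le_pow_right hp.1.pos h1

theorem card_ge {p : ℕ} [hp : Fact p.Prime] (hp2 : p ≠ 2) (hF : (2 : F) = 0) (hV : ∀ v : V, p • v = 0) (t : F)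
    (ht : ∃ v : V, (xe hL 11 t : ↥(chevG2.group F)) • v ≠ v) :
    p ^ (Fintype.card F * (Fintype.card F ^ 2 - 1)) ≤ Nat.card V := by
  let _ : Module (ZMod p) V := AddCommGroup.zmodModule hV
  exact card_ge' hp2 hF t ht

/-- **the fixed points of the long root involutions** -/
theorem index_ge' {p : ℕ} [hp : Fact p.Prime] [Module (ZMod p) V] (hp2 : p ≠ 2) (hF : (2 : F) = 0) (t : F)
    (ht : ∃ v : V, (xe hL 11 t : ↥(chevG2.group F)) • v ≠ v) :
    p ^ (Fintype.card F * (Fintype.card F * (Fintype.card F / 2))) ≤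
      (fxV V (Subgroup.zpowers (xe hL 11 t : ↥(chevG2.group F)))).index := by
  have hfd : FiniteDimensional (ZMod p) V := Module.Finite.of_finite
  let ρ := toLin p ↥(chevG2.group F) V
  have hρ : ∀ g (v : V), ρ g v = g • v := fun g v => rfl
  obtain ⟨v, hv⟩ := ht
  have h1 := neg_ge ρ (two_ne hp2) hF t (fun h => hv (by rw [← hρ, h, Module.End.one_apply]))
  set W := LinearMap.ker (ρ (xe hL 11 t) + 1) with hW
  have h2 : p ^ (Fintype.card F * (Fintype.card F * (Fintype.card F / 2))) ≤ Nat.card W := by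
    rw [card_sub W]
    exact Nat.pow_le_pow_right hp.1.pos h1
  refine h2.trans ?_
  rw [AddSubgroup.index]
  refine Nat.card_le_card_of_injective
    (fun w : W => ((w : V) : V ⧸ fxV V (Subgroup.zpowers (xe hL 11 t : ↥(chevG2.group F))))) ?_
  intro w w' h
  have h3 : -(w : V) + (w' : V) ∈ fxV V (Subgroup.zpowers (xe hL 11 t : ↥(chevG2.group F))) :=
    QuotientAddGroup.eq.1 h
  have h4 : (xe hL 11 t : ↥(chevG2.group F)) • (-(w : V) + (w' : V)) = -(w : V) + (w' : V) :=
    h3 _ (Subgroup.mem_zpowers _)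
  have h5 : ∀ w : W, (xe hL 11 t : ↥(chevG2.group F)) • (w : V) = -(w : V) := by
    intro w
    have h6 := LinearMap.mem_ker.1 w.2
    rw [LinearMap.add_apply, Module.End.one_apply, hρ] at h6
    exact eq_neg_of_add_eq_zero_left h6
  rw [smul_add, smul_neg, h5, h5] at h4
  have h6 : (2 : ZMod p) • ((w : V) - (w' : V)) = 0 := by
    rw [two_smul]
    have h7 : -(-(w : V)) + -(w' : V) - (-(w : V) + (w' : V)) = 0 := sub_eq_zero.2 h4
    rw [← h7]
    abel
  rcases smul_eq_zero.1 h6 with h7 | h7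
  · exact absurd h7 (two_ne hp2)
  · exact Subtype.ext (sub_eq_zero.1 h7)

theorem index_ge {p : ℕ} [hp : Fact p.Prime] (hp2 : p ≠ 2) (hF : (2 : F) = 0) (hV : ∀ v : V, p • v = 0) (t : F)
    (ht : ∃ v : V, (xe hL 11 t : ↥(chevG2.group F)) • v ≠ v) :
    p ^ (Fintype.card F * (Fintype.card F * (Fintype.card F / 2))) ≤
      (fxV V (Subgroup.zpowers (xe hL 11 t : ↥(chevG2.group F)))).index := by
  let _ : Module (ZMod p) V := AddCommGroup.zmodModule hV
  exact index_ge' hp2 hF t ht

/-! ### the field with four elements -/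

section four

variable {K : Type v} [Field K] [Fintype K]

theorem two_eq (hK : Fintype.card K = 4) : (2 : K) = 0 := by
  have : Fact (Nat.Prime 2) := ⟨Nat.prime_two⟩
  have hc : CharP K 2 := charP_of_card_eq_prime_pow (f := 2) (by rw [hK]; norm_num)
  exact_mod_cast CharP.cast_eq_zero K 2

theorem card_four (hK : Fintype.card K = 4) : Nat.card ↥(chevG2.group K) = 251596800 := by
  rw [Cfsg.Agent.S1059.result (F := K) hK]
  norm_num

theorem exists_w (hK : Fintype.card K = 4) : ∃ w : K, w ^ 2 = w + 1 := by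
  classical
  obtain ⟨a, ha0, ha1⟩ : ∃ a : K, a ≠ 0 ∧ a ≠ 1 := by
    by_contra hcon
    push Not at hcon
    have h1 : Fintype.card K ≤ ({0, 1} : Finset K).card := by
      rw [← Finset.card_univ]
      refine Finset.card_le_card fun x _ => ?_
      by_cases hx : x = 0
      · simp [hx]
      · simp [hcon x hx]
    have h2 : ({0, 1} : Finset K).card ≤ 2 := Finset.card_le_two
    omega
  have h1 := FiniteField.pow_card a
  rw [hK] at h1
  have h2 := two_eq hK
  refine ⟨a, ?_⟩
  have h3 : a * (a - 1) * (a ^ 2 + a + 1) = 0 := by linear_combination h1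
  rcases mul_eq_zero.1 h3 with h4 | h4
  · rcases mul_eq_zero.1 h4 with h5 | h5
    · exact absurd h5 ha0
    · exact absurd (sub_eq_zero.1 h5) ha1
  · linear_combination h4 - (a + 1) * h2

omit [Fintype K] in
theorem sl_pow (X : Matrix.SpecialLinearGroup (Fin 3) K) (n : ℕ) (h : (X : Matrix (Fin 3) (Fin 3) K) ^ n = 1) :
    X ^ n = 1 := by
  ext i j
  rw [Matrix.SpecialLinearGroup.coe_pow, h, Matrix.SpecialLinearGroup.coe_one]

omit [Fintype K] in
theorem sl_mul (X Y Z : Matrix.SpecialLinearGroup (Fin 3) K)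
    (h : (X : Matrix (Fin 3) (Fin 3) K) * (Y : Matrix (Fin 3) (Fin 3) K) = (Z : Matrix (Fin 3) (Fin 3) K)) :
    X * Y = Z := by
  ext i j
  rw [Matrix.SpecialLinearGroup.coe_mul, h]

/-- the matrices of order 7 -/
def mA : Matrix.SpecialLinearGroup (Fin 3) (ZMod 2) := ⟨!![0, 0, 1; 0, 1, 1; 1, 1, 0], by decide⟩
/-- the matrices of order 7 -/
def mB : Matrix.SpecialLinearGroup (Fin 3) (ZMod 2) := ⟨!![1, 1, 0; 1, 1, 1; 1, 0, 1], by decide⟩

theorem mA_pow : mA ^ 7 = 1 := by decide
theorem mB_pow : mB ^ 7 = 1 := by decide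
theorem mAB : mA * mB = Matrix.SpecialLinearGroup.transvection (show (0 : Fin 3) ≠ 2 by decide) 1 := by decide

omit [Fintype K] in
theorem xx_eq (t : K) : (Cfsg.Agent.H120.GTwo.XX (Cfsg.Agent.H120.GTwo.kL 0 2) t : ↥(chevG2.group K)) = xe hL 11 t := by
  apply Subtype.ext
  apply Units.ext
  rfl

open Matrix in
/-- the long root element is a product of two elements of order 7 -/
theorem seven_elts (hK : Fintype.card K = 4) : ∃ a b : ↥(chevG2.group K), a ^ 7 = 1 ∧ b ^ 7 = 1 ∧
    a * b = xe hL 11 1 := by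
  have : Fact (Nat.Prime 2) := ⟨Nat.prime_two⟩
  have hc : CharP K 2 := charP_of_card_eq_prime_pow (f := 2) (by rw [hK]; norm_num)
  obtain ⟨π, hπ, -, -⟩ := Cfsg.Agent.H120.GTwo.exists_pi K
  let f : SpecialLinearGroup (Fin 3) (ZMod 2) →* SpecialLinearGroup (Fin 3) K :=
    SpecialLinearGroup.map (ZMod.castHom (dvd_refl 2) K)
  refine ⟨π (f mA), π (f mB), ?_, ?_, ?_⟩
  · rw [← map_pow, ← map_pow, mA_pow, map_one, map_one]
  · rw [← map_pow, ← map_pow, mB_pow, map_one, map_one]
  · have h2 : f (SpecialLinearGroup.transvection (show (0 : Fin 3) ≠ 2 by decide) 1) =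
        SpecialLinearGroup.transvection (show (0 : Fin 3) ≠ 2 by decide) 1 := by
      apply Subtype.ext
      ext i j
      change (ZMod.castHom (dvd_refl 2) K) ((Matrix.transvection 0 2 (1 : ZMod 2)) i j) =
        (Matrix.transvection 0 2 (1 : K)) i j
      fin_cases i <;> fin_cases j <;>
        simp [Matrix.transvection]
    rw [← map_mul, ← map_mul, mAB, h2, hπ, xx_eq]

open Matrix in
/-- the long root element is a product of two elements of order 5 -/
theorem five_elts (hK : Fintype.card K = 4) : ∃ a b : ↥(chevG2.group K), a ^ 5 = 1 ∧ b ^ 5 = 1 ∧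
    a * b = xe hL 11 1 := by
  obtain ⟨π, hπ, -, -⟩ := Cfsg.Agent.H120.GTwo.exists_pi K
  obtain ⟨w, hw⟩ := exists_w hK
  have h2 := two_eq hK
  let A : SpecialLinearGroup (Fin 3) K := ⟨!![0, 0, 1; 0, 1, 0; 1, 0, w], by
    rw [Matrix.det_fin_three]
    simp
    grind⟩
  let B : SpecialLinearGroup (Fin 3) K := ⟨!![w, 0, w + 1; 0, 1, 0; 1, 0, 1], by
    rw [Matrix.det_fin_three]
    simp
    grind⟩
  have hA2 : (!![0, 0, 1; 0, 1, 0; 1, 0, w] : Matrix (Fin 3) (Fin 3) K) * !![0, 0, 1; 0, 1, 0; 1, 0, w] =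
      !![1, 0, w; 0, 1, 0; w, 0, w] := by
    ext i j
    fin_cases i <;> fin_cases j <;> simp [Matrix.mul_apply, Fin.sum_univ_three]
    grind
  have hA4 : (!![1, 0, w; 0, 1, 0; w, 0, w] : Matrix (Fin 3) (Fin 3) K) * !![1, 0, w; 0, 1, 0; w, 0, w] =
      !![w, 0, 1; 0, 1, 0; 1, 0, 0] := by
    ext i j
    fin_cases i <;> fin_cases j <;> simp [Matrix.mul_apply, Fin.sum_univ_three]
    all_goals grind
  have hA5 : (!![w, 0, 1; 0, 1, 0; 1, 0, 0] : Matrix (Fin 3) (Fin 3) K) * !![0, 0, 1; 0, 1, 0; 1, 0, w] = 1 := by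
    ext i j
    fin_cases i <;> fin_cases j <;> simp [Matrix.mul_apply, Fin.sum_univ_three]
    all_goals grind
  have hB2 : (!![w, 0, w + 1; 0, 1, 0; 1, 0, 1] : Matrix (Fin 3) (Fin 3) K) * !![w, 0, w + 1; 0, 1, 0; 1, 0, 1] =
      !![0, 0, w; 0, 1, 0; w + 1, 0, w] := by
    ext i j
    fin_cases i <;> fin_cases j <;> simp [Matrix.mul_apply, Fin.sum_univ_three]
    all_goals grind
  have hB4 : (!![0, 0, w; 0, 1, 0; w + 1, 0, w] : Matrix (Fin 3) (Fin 3) K) * !![0, 0, w; 0, 1, 0; w + 1, 0, w] =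
      !![1, 0, w + 1; 0, 1, 0; 1, 0, w] := by
    ext i j
    fin_cases i <;> fin_cases j <;> simp [Matrix.mul_apply, Fin.sum_univ_three]
    all_goals grind
  have hB5 : (!![1, 0, w + 1; 0, 1, 0; 1, 0, w] : Matrix (Fin 3) (Fin 3) K) * !![w, 0, w + 1; 0, 1, 0; 1, 0, 1] = 1 := by
    ext i j
    fin_cases i <;> fin_cases j <;> simp [Matrix.mul_apply, Fin.sum_univ_three]
    all_goals grind
  have hA : A ^ 5 = 1 := by
    apply sl_pow
    change (!![0, 0, 1; 0, 1, 0; 1, 0, w] : Matrix (Fin 3) (Fin 3) K) ^ 5 = 1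
    rw [show (5 : ℕ) = 2 * 2 + 1 by norm_num, pow_succ, pow_mul, sq, sq, hA2, hA4, hA5]
  have hB : B ^ 5 = 1 := by
    apply sl_pow
    change (!![w, 0, w + 1; 0, 1, 0; 1, 0, 1] : Matrix (Fin 3) (Fin 3) K) ^ 5 = 1
    rw [show (5 : ℕ) = 2 * 2 + 1 by norm_num, pow_succ, pow_mul, sq, sq, hB2, hB4, hB5]
  refine ⟨π A, π B, ?_, ?_, ?_⟩
  · rw [← map_pow, hA, map_one]
  · rw [← map_pow, hB, map_one]
  · have h1 : A * B = SpecialLinearGroup.transvection (show (0 : Fin 3) ≠ 2 by decide) 1 := by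
      apply sl_mul
      change (!![0, 0, 1; 0, 1, 0; 1, 0, w] : Matrix (Fin 3) (Fin 3) K) * !![w, 0, w + 1; 0, 1, 0; 1, 0, 1] =
        Matrix.transvection 0 2 (1 : K)
      ext i j
      fin_cases i <;> fin_cases j <;>
        simp [Matrix.mul_apply, Fin.sum_univ_three, Matrix.transvection]
      all_goals grind
    rw [← map_mul, h1, hπ, xx_eq]

/-- a nontrivial element of prime order generates a `p`-group -/
theorem isPGroup_of_pow {G : Type*} [Group G] {p : ℕ} {a : G} (h : a ^ p = 1) : IsPGroup p (Subgroup.zpowers a) := by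
  rintro ⟨_, k, rfl⟩
  refine ⟨1, Subtype.ext ?_⟩
  change (a ^ k) ^ p ^ 1 = 1
  rw [pow_one, ← zpow_natCast, ← zpow_mul, mul_comm, zpow_mul, zpow_natCast, h, one_zpow]

omit [Fintype K] in
theorem exists_move {W : Type*} [AddCommGroup W] [DistribMulAction ↥(chevG2.group K) W]
    (hf : ∀ h : ↥(chevG2.group K), (∀ v : W, h • v = v) → h = 1) : ∃ v : W, (xe hL 11 (1 : K) : ↥(chevG2.group K)) • v ≠ v := by
  by_contra hcon
  push Not at hcon
  exact one_ne_zero (xe_eq_one hL (by decide +kernel) (hf _ hcon))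

/-- the closing for `p = 5, 7` -/
theorem noPEx_two (hK : Fintype.card K = 4) {p : ℕ} (hp : p.Prime) (h5 : 5 ≤ p)
    (h : ∃ a b : ↥(chevG2.group K), a ^ p = 1 ∧ b ^ p = 1 ∧ a * b = xe hL 11 1) :
    NoPEx p ↥(chevG2.group K) := by
  intro W _ _ _ hV _ hf _ horb
  have : Fact p.Prime := ⟨hp⟩
  have hfin : Finite ↥(chevG2.group K) := inferInstance
  obtain ⟨a, b, ha, hb, hab⟩ := h
  have h1 := index_ge (by omega) (two_eq hK) hV 1 (exists_move hf)
  have h2 := index_two (V := W) horb (isPGroup_of_pow ha) (isPGroup_of_pow hb)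
  rw [hab, card_four hK] at h2
  rw [hK] at h1
  have h3 : 5 ^ 32 ≤ p ^ 32 := Nat.pow_le_pow_left h5 32
  have h4 : p ^ 32 ≤ 251596800 * 251596800 := h1.trans h2
  have h6 : (251596800 * 251596800 : ℕ) < 5 ^ 32 := by norm_num
  omega

theorem noPEx_five (hK : Fintype.card K = 4) : NoPEx 5 ↥(chevG2.group K) :=
  noPEx_two hK (by norm_num) le_rfl (five_elts hK)

theorem noPEx_seven (hK : Fintype.card K = 4) : NoPEx 7 ↥(chevG2.group K) :=
  noPEx_two hK (by norm_num) (by norm_num) (seven_elts hK)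

theorem exists_ne' (hK : Fintype.card K = 4) : ∃ a : K, a ≠ 0 ∧ a ≠ 1 := by
  obtain ⟨w, hw⟩ := exists_w hK
  refine ⟨w, ?_, ?_⟩
  · rintro rfl
    exact one_ne_zero (by linear_combination - hw : (1 : K) = 0)
  · rintro rfl
    exact one_ne_zero (by linear_combination - hw : (1 : K) = 0)

theorem perfect (hK : Fintype.card K = 4) : commutator ↥(chevG2.group K) = ⊤ := by
  have hs := Cfsg.Agent.S1055.result (exists_ne' hK)
  have := hs.1
  rcases (inferInstance : (commutator ↥(chevG2.group K)).Normal).eq_bot_or_eq_top with h1 | h1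
  · exfalso
    apply hs.2
    refine ⟨⟨fun a b => ?_⟩⟩
    have h2 : ⁅a, b⁆ ∈ commutator ↥(chevG2.group K) := by
      rw [commutator_def]
      exact Subgroup.commutator_mem_commutator (Subgroup.mem_top a) (Subgroup.mem_top b)
    rw [h1, Subgroup.mem_bot, commutatorElement_eq_one_iff_mul_comm] at h2
    exact h2
  · exact h1

theorem noPEx_thirteen (hK : Fintype.card K = 4) : NoPEx 13 ↥(chevG2.group K) := by
  have hfin : Finite ↥(chevG2.group K) := inferInstance
  have hs := Cfsg.Agent.S1055.result (exists_ne' hK)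
  have := hs.1
  have : Fact (Nat.Prime 13) := ⟨by norm_num⟩
  refine Cfsg.Agent.H388.RI.noPEx_simple (N := 19353600) (a := 1) (c := 6) (k := 7) (D := 60) (by norm_num)
    (perfect hK) (by norm_num) one_ne_zero (by rw [card_four hK]; norm_num) (by norm_num) (by norm_num) (by norm_num) ?_
  intro W _ _ _ hV hf
  have h1 := card_ge (by norm_num) (two_eq hK) hV 1 (exists_move hf)
  rw [hK] at h1
  exact h1

/-- **`EK p G₂(4)`**, `p = 5, 7, 13` -/
theorem ek (hK : Fintype.card K = 4) {p : ℕ} (hp : p = 5 ∨ p = 7 ∨ p = 13) : EK p ↥(chevG2.group K) := by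
  refine ek_of_noPEx Nat.prime_two (Cfsg.Agent.S2102.result hK) ?_
  rcases hp with rfl | rfl | rfl
  · exact noPEx_five hK
  · exact noPEx_seven hK
  · exact noPEx_thirteen hK

end four

end GTwo

end Cfsg.Agent.H277.RIM
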