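import Cfsg.Agent.H277.RIM.GTwoFour
import Cfsg.Agent.H507.RIM.Iso
import Cfsg.Agent.H509.RIM.GTwo

/-!
# S4816, row `G₂(4)` (task 6204; helper509: `p = 3`, helper277: `p = 5, 7, 13`)
-/

set_option autoImplicit false

namespace Cfsg.Agent.H277.RIM.GTwo

open Cfsg Cfsg.Lie Cfsg.Agent.H665.RIM

universe u v

/-- `EK p S`, `S ≅ G₂(4)`, `p = 5, 7, 13` -/
theorem row_ek {S : Type u} [Group S] {F : Type v} [Field F] [Fintype F] (hF : Fintype.card F = 4)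
    (e : S ≃* ↥(chevG2.group F)) {p : ℕ} (hp : p = 5 ∨ p = 7 ∨ p = 13) : EK p S :=
  Cfsg.Agent.H507.RIM.ek_congr e.symm (ek hF hp)

/-- **the row `G₂(4)`** -/
theorem row {S : Type u} [Group S] [Finite S] {F : Type v} [Field F] [Fintype F] (hF : Fintype.card F = 4)
    (e : S ≃* ↥(chevG2.group F)) {p : ℕ} (hp : p = 3 ∨ p = 5 ∨ p = 7 ∨ p = 13) : NBall p S ∨ EK p S := by
  rcases hp with rfl | hp
  · exact Or.inl (Cfsg.Agent.H509.RIM.GTwo.nball_three hF e)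
  · exact Or.inr (row_ek hF e hp)

end Cfsg.Agent.H277.RIM.GTwo
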